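import Mathlib
import Cfsg.Prelude.Def_KGroupFacts
import Cfsg.Agent.Lib.Helper21.SchurMult

set_option autoImplicit false

/-! Trivial Schur multipliers, one prime at a time: for each prime `p` a subgroup `P` of index prime
to `p` such that, in every central extension, the commutator subgroup of the preimage of `P`
meets the kernel in no element of order `p`. -/

namespace Cfsg.Agent.Lib.Helper3.SchurM

universe u

open Subgroup
open scoped commutatorElement

/-- transfer: for a central element `k` in the commutator subgroup, `k ^ |Γ:V|` lies in `[V,V]` -/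
theorem pow_index_mem_comm {Γ : Type*} [Group Γ] (V : Subgroup Γ) [V.FiniteIndex] (k : Γ)
    (hkc : k ∈ center Γ) (hk' : k ∈ commutator Γ) : k ^ V.index ∈ ⁅V, V⁆ := by
  let ϕ : ↥V →* Abelianization ↥V := Abelianization.of
  have key : ∀ (n : ℕ) (g₀ : Γ), g₀⁻¹ * k ^ n * g₀ ∈ V → g₀⁻¹ * k ^ n * g₀ = k ^ n := by
    intro n g₀ _
    have := mem_center_iff.mp (pow_mem hkc n) g₀
    rw [mul_assoc, ← this, inv_mul_cancel_left]
  have h1 := MonoidHom.transfer_eq_pow ϕ k key
  have h2 : MonoidHom.transfer ϕ k = 1 := by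
    have : commutator Γ ≤ (MonoidHom.transfer ϕ).ker := Abelianization.commutator_subset_ker _
    exact this hk'
  rw [h2] at h1
  have h3 : (⟨k ^ V.index, MonoidHom.transfer_eq_pow_aux k key⟩ : ↥V) ∈ commutator ↥V := by
    rw [← Abelianization.ker_of]; exact h1.symm
  rw [← V.map_subtype_commutator]
  exact ⟨_, h3, rfl⟩

/-- the local condition at `p` on the subgroup `P` -/
def LocalTriv {G : Type u} [Group G] (p : ℕ) (P : Subgroup G) : Prop :=
  ∀ (Γ : Type u) [Group Γ] [Finite Γ] (σ : Γ →* G), Function.Surjective σ → σ.ker ≤ center Γ →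
    ∀ z ∈ σ.ker, z ∈ ⁅P.comap σ, P.comap σ⁆ → z ^ p = 1 → z = 1

theorem trivial_of_local {G : Type u} [Group G] [Finite G]
    (h : ∀ p : ℕ, p.Prime → ∃ P : Subgroup G, ¬ p ∣ P.index ∧ LocalTriv p P) :
    Cfsg.HasCyclicSchurMultiplier G 1 := by
  apply Cfsg.Agent.Lib.Helper21.hasCyclicSchurMultiplier_one_of
  intro Γ _ _ σ hσ
  by_contra hne
  obtain ⟨z, hz, hz1⟩ := (Subgroup.ne_bot_iff_exists_ne_one.mp hne |>.imp fun z hz => hz) |>
    fun ⟨z, hz⟩ => (⟨z.1, z.2, fun h => hz (Subtype.ext h)⟩ : ∃ z : Γ, z ∈ σ.ker ∧ z ≠ 1)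
  -- an element of prime order in the kernel
  have hn1 : orderOf z ≠ 1 := fun h => hz1 (orderOf_eq_one_iff.mp h)
  have hn0 : 0 < orderOf z := orderOf_pos z
  set n := orderOf z with hn
  set p := n.minFac with hp
  have hpp : p.Prime := Nat.minFac_prime hn1
  have hpn : p ∣ n := Nat.minFac_dvd n
  set w := z ^ (n / p) with hw
  have hwo : orderOf w = p := by
    rw [hw, orderOf_pow' z (by
      intro h0
      have := Nat.div_mul_cancel hpn
      rw [h0, zero_mul] at this
      omega)]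
    rw [← hn, Nat.gcd_eq_right (Nat.div_dvd_of_dvd hpn)]
    exact Nat.div_div_self hpn (by omega)
  have hwk : w ∈ σ.ker := pow_mem hz _
  obtain ⟨P, hidx, hloc⟩ := h p hpp
  have hidx' : (P.comap σ).index = P.index := Subgroup.index_comap_of_surjective P hσ.1
  have h1 := pow_index_mem_comm (P.comap σ) w (hσ.2.1 hwk) (hσ.2.2 hwk)
  rw [hidx'] at h1
  have h2 : w ^ P.index = 1 := by
    apply hloc Γ σ hσ.1 hσ.2.1 _ (pow_mem hwk _) h1
    rw [← pow_mul, mul_comm, pow_mul, ← hwo, pow_orderOf_eq_one, one_pow]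
  have h3 : p ∣ P.index := by
    rw [← hwo]
    exact orderOf_dvd_of_pow_eq_one h2
  exact hidx h3

theorem commElt_mul_central_left {Γ : Type*} [Group Γ] {h k g : Γ} (hk : k ∈ center Γ) :
    ⁅h * k, g⁆ = ⁅h, g⁆ := by
  have h1 : k * g * k⁻¹ = g := by
    rw [← mem_center_iff.mp hk g, mul_inv_cancel_right]
  calc ⁅h * k, g⁆ = h * (k * g * k⁻¹) * h⁻¹ * g⁻¹ := by
        rw [commutatorElement_def]; group
    _ = ⁅h, g⁆ := by rw [h1, commutatorElement_def]

theorem commElt_mul_central_right {Γ : Type*} [Group Γ] {h k g : Γ} (hk : k ∈ center Γ) :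
    ⁅g, h * k⁆ = ⁅g, h⁆ := by
  have h1 : k * g⁻¹ * k⁻¹ = g⁻¹ := by
    rw [← mem_center_iff.mp hk g⁻¹, mul_inv_cancel_right]
  have h2 : k * (g * k⁻¹) = g := by
    rw [← mul_assoc, ← mem_center_iff.mp hk g, mul_inv_cancel_right]
  calc ⁅g, h * k⁆ = g * h * (k * (g * k⁻¹))⁻¹ * h⁻¹ := by
        rw [commutatorElement_def]; group
    _ = ⁅g, h⁆ := by rw [h2, commutatorElement_def]

/-- central factors do not change the commutator subgroup -/
theorem comm_sup_central_le {Γ : Type*} [Group Γ] (H K : Subgroup Γ) [K.Normal] (hK : K ≤ center Γ) :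
    ⁅H ⊔ K, H ⊔ K⁆ ≤ ⁅H, H⁆ := by
  rw [Subgroup.commutator_le]
  intro g₁ hg₁ g₂ hg₂
  obtain ⟨h₁, hh₁, k₁, hk₁, rfl⟩ := Subgroup.mem_sup_of_normal_right.mp hg₁
  obtain ⟨h₂, hh₂, k₂, hk₂, rfl⟩ := Subgroup.mem_sup_of_normal_right.mp hg₂
  rw [commElt_mul_central_left (hK hk₁), commElt_mul_central_right (hK hk₂)]
  exact Subgroup.commutator_mem_commutator hh₁ hh₂

/-- reduction of the local condition to a subgroup `H` upstairs covering `P` -/
theorem localTriv_of {G : Type u} [Group G] (p : ℕ) (P : Subgroup G)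
    (h : ∀ (Γ : Type u) [Group Γ] [Finite Γ] (σ : Γ →* G), Function.Surjective σ →
      σ.ker ≤ center Γ → ∃ H : Subgroup Γ, P ≤ H.map σ ∧
        ∀ z ∈ σ.ker, z ∈ ⁅H, H⁆ → z ^ p = 1 → z = 1) : LocalTriv p P := by
  intro Γ _ _ σ hs hc z hz hzc hzp
  obtain ⟨H, hPH, hH⟩ := h Γ σ hs hc
  apply hH z hz _ hzp
  have h1 : P.comap σ ≤ H ⊔ σ.ker := by
    rw [← Subgroup.comap_map_eq]
    exact Subgroup.comap_mono hPH
  exact comm_sup_central_le H σ.ker hc (Subgroup.commutator_mono h1 h1 hzc)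

/-- cyclic subgroups satisfy the local condition at every prime -/
theorem localTriv_zpowers {G : Type u} [Group G] (p : ℕ) (a : G) : LocalTriv p (zpowers a) := by
  apply localTriv_of
  intro Γ _ _ σ hs _
  obtain ⟨x, rfl⟩ := hs a
  refine ⟨zpowers x, by rw [MonoidHom.map_zpowers], ?_⟩
  intro z _ hz _
  have : ⁅zpowers x, zpowers x⁆ = ⊥ := by
    rw [Subgroup.commutator_eq_bot_iff_le_centralizer]
    intro g hg
    rw [Subgroup.mem_centralizer_iff]
    intro h hh
    obtain ⟨i, rfl⟩ := Subgroup.mem_zpowers_iff.mp hg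
    obtain ⟨j, rfl⟩ := Subgroup.mem_zpowers_iff.mp hh
    exact ((Commute.refl x).zpow_zpow j i).eq
  rw [this] at hz
  exact Subgroup.mem_bot.mp hz

end Cfsg.Agent.Lib.Helper3.SchurM
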