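import Mathlib
import Cfsg.Agent.Lib.Helper3.Schur.Basic

set_option autoImplicit false

/-! Local conditions: an abelian subgroup on two generators swapped by an element, and the
semidihedral relations. -/

namespace Cfsg.Agent.Lib.Helper3.SchurM

universe u

open Subgroup
open scoped commutatorElement

theorem commElt_mul_left' {Γ : Type*} [Group Γ] (g₁ g₂ t : Γ) :
    ⁅g₁ * g₂, t⁆ = g₁ * ⁅g₂, t⁆ * g₁⁻¹ * ⁅g₁, t⁆ := by
  simp only [commutatorElement_def]; group

theorem commElt_inv_left' {Γ : Type*} [Group Γ] (g t : Γ) :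
    ⁅g⁻¹, t⁆ = g⁻¹ * ⁅g, t⁆⁻¹ * g⁻¹⁻¹ := by
  simp only [commutatorElement_def]; group

theorem commElt_mul_right' {Γ : Type*} [Group Γ] (g h₁ h₂ : Γ) :
    ⁅g, h₁ * h₂⁆ = ⁅g, h₁⁆ * (h₁ * ⁅g, h₂⁆ * h₁⁻¹) := by
  simp only [commutatorElement_def]; group

theorem commElt_inv_right' {Γ : Type*} [Group Γ] (g h : Γ) :
    ⁅g, h⁻¹⁆ = h⁻¹ * ⁅g, h⁆⁻¹ * h⁻¹⁻¹ := by
  simp only [commutatorElement_def]; group

/-- the commutator subgroup of a subgroup generated by a set normalizing `N` whose elements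
commute modulo `N` lies in `N` -/
theorem comm_closure_le {Γ : Type*} [Group Γ] (N : Subgroup Γ) (S : Set Γ)
    (hn : ∀ s ∈ S, s ∈ normalizer (N : Set Γ)) (hc : ∀ s ∈ S, ∀ t ∈ S, ⁅s, t⁆ ∈ N) :
    ⁅closure S, closure S⁆ ≤ N := by
  have hno : closure S ≤ normalizer (N : Set Γ) := (closure_le _).mpr hn
  have conj_mem : ∀ g ∈ closure S, ∀ m ∈ N, g * m * g⁻¹ ∈ N := fun g hg m hm =>
    (mem_normalizer_iff.mp (hno hg) m).mp hm
  have stepA : ∀ t ∈ S, ∀ g ∈ closure S, ⁅g, t⁆ ∈ N := by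
    intro t ht g hg
    induction hg using closure_induction with
    | mem s hs => exact hc s hs t ht
    | one => rw [commutatorElement_one_left]; exact N.one_mem
    | mul g₁ g₂ hg₁ _ ih₁ ih₂ =>
      rw [commElt_mul_left']
      exact N.mul_mem (conj_mem g₁ hg₁ _ ih₂) ih₁
    | inv g hg ih =>
      rw [commElt_inv_left']
      exact conj_mem g⁻¹ (inv_mem hg) _ (N.inv_mem ih)
  rw [Subgroup.commutator_le]
  intro g hg h hh
  induction hh using closure_induction with
  | mem t ht => exact stepA t ht g hg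
  | one => rw [commutatorElement_one_right]; exact N.one_mem
  | mul h₁ h₂ hh₁ _ ih₁ ih₂ =>
    rw [commElt_mul_right']
    exact N.mul_mem ih₁ (conj_mem h₁ hh₁ _ ih₂)
  | inv h hh ih =>
    rw [commElt_inv_right']
    exact conj_mem h⁻¹ (inv_mem hh) _ (N.inv_mem ih)

theorem mem_normalizer_zpowers {Γ : Type*} [Group Γ] {s n : Γ} (h1 : s * n * s⁻¹ ∈ zpowers n)
    (h2 : s⁻¹ * n * s ∈ zpowers n) : s ∈ normalizer (zpowers n : Set Γ) := by
  rw [mem_normalizer_iff]
  intro h
  constructor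
  · intro hh
    obtain ⟨i, rfl⟩ := mem_zpowers_iff.mp hh
    rw [← conj_zpow]
    exact zpow_mem h1 i
  · intro hh
    obtain ⟨i, hi⟩ := mem_zpowers_iff.mp hh
    have : h = (s⁻¹ * n * s) ^ i := by
      have h3 : s⁻¹ * n * s = s⁻¹ * n * s⁻¹⁻¹ := by rw [inv_inv]
      rw [h3, conj_zpow, hi]; group
    rw [this]
    exact zpow_mem h2 i

/-- two commuting elements swapped by a third: the local condition at odd `p` -/
theorem localTriv_swap {G : Type u} [Group G] (p : ℕ) (hp : Odd p) (a b g : G) (hab : a * b = b * a)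
    (h1 : g * a * g⁻¹ = b) (h2 : g * b * g⁻¹ = a) : LocalTriv p (closure {a, b}) := by
  apply localTriv_of
  intro Γ _ _ σ hs hcen
  obtain ⟨x, rfl⟩ := hs a
  obtain ⟨y, rfl⟩ := hs b
  obtain ⟨γ, rfl⟩ := hs g
  refine ⟨closure {x, y}, by
    rw [MonoidHom.map_closure, Set.image_pair], ?_⟩
  set c := ⁅x, y⁆ with hc
  have hck : c ∈ σ.ker := by
    show σ c = 1
    rw [hc, map_commutatorElement, commutatorElement_eq_one_iff_commute]
    exact hab
  have hcc : c ∈ center Γ := hcen hck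
  -- the conjugates of the lifts
  have hk1 : y⁻¹ * (γ * x * γ⁻¹) ∈ σ.ker := by
    show σ _ = 1
    simp only [map_mul, map_inv]
    rw [h1]; group
  have hk2 : x⁻¹ * (γ * y * γ⁻¹) ∈ σ.ker := by
    show σ _ = 1
    simp only [map_mul, map_inv]
    rw [h2]; group
  have e1 : γ * x * γ⁻¹ = y * (y⁻¹ * (γ * x * γ⁻¹)) := by group
  have e2 : γ * y * γ⁻¹ = x * (x⁻¹ * (γ * y * γ⁻¹)) := by group
  have hconj : γ * c * γ⁻¹ = ⁅y, x⁆ := by
    have : γ * c * γ⁻¹ = ⁅γ * x * γ⁻¹, γ * y * γ⁻¹⁆ := by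
      rw [hc]; simp only [commutatorElement_def]; group
    rw [this, e1, e2, commElt_mul_central_left (hcen hk1), commElt_mul_central_right (hcen hk2)]
  have hconj' : γ * c * γ⁻¹ = c := by
    rw [mem_center_iff.mp hcc γ, mul_inv_cancel_right]
  have hc2 : c * c = 1 := by
    have : ⁅y, x⁆ = c⁻¹ := by rw [hc, commutatorElement_inv]
    rw [hconj', this] at hconj
    calc c * c = c * c⁻¹ := by rw [← hconj]
      _ = 1 := mul_inv_cancel c
  have hle : ⁅closure {x, y}, closure {x, y}⁆ ≤ zpowers c := by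
    apply comm_closure_le
    · intro s _
      apply mem_normalizer_zpowers
      · rw [mem_center_iff.mp hcc s, mul_inv_cancel_right]; exact mem_zpowers c
      · rw [mul_assoc, ← mem_center_iff.mp hcc s, inv_mul_cancel_left]; exact mem_zpowers c
    · have hxy : ⁅x, y⁆ ∈ zpowers c := mem_zpowers c
      have hyx : ⁅y, x⁆ ∈ zpowers c := by
        have : ⁅y, x⁆ = c⁻¹ := by rw [hc, commutatorElement_inv]
        rw [this]; exact inv_mem (mem_zpowers _)
      intro s hs t ht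
      simp only [Set.mem_insert_iff, Set.mem_singleton_iff] at hs ht
      rcases hs with hs | hs <;> rcases ht with ht | ht <;> rw [hs, ht]
      · rw [commutatorElement_self]; exact one_mem _
      · exact hxy
      · exact hyx
      · rw [commutatorElement_self]; exact one_mem _
  intro z _ hz hzp
  obtain ⟨i, rfl⟩ := mem_zpowers_iff.mp (hle hz)
  have hz2 : (c ^ i) ^ 2 = 1 := by
    rw [← zpow_natCast, ← zpow_mul, mul_comm, zpow_mul, zpow_natCast, pow_two, hc2, one_zpow]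
  have hd : orderOf (c ^ i) ∣ Nat.gcd 2 p :=
    Nat.dvd_gcd (orderOf_dvd_of_pow_eq_one hz2) (orderOf_dvd_of_pow_eq_one hzp)
  have hg : Nat.gcd 2 p = 1 := by
    rw [Nat.coprime_comm.mp (Nat.Coprime.symm (Nat.coprime_two_left.mpr hp)) ]
  rw [hg, Nat.dvd_one, orderOf_eq_one_iff] at hd
  exact hd

end Cfsg.Agent.Lib.Helper3.SchurM
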