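import Mathlib
import Cfsg.Agent.Lib.Helper3.Schur.Local

set_option autoImplicit false

/-! The semidihedral relations `b a b⁻¹ = a³`, `b² = 1`, `a⁴ ≠ 1`: the local condition. -/

namespace Cfsg.Agent.Lib.Helper3.SchurM

universe u

open Subgroup
open scoped commutatorElement

theorem localTriv_sd {G : Type u} [Group G] (p : ℕ) (a b : G) (h1 : b * a * b⁻¹ = a ^ 3)
    (h2 : b * b = 1) (h4 : a ^ 4 ≠ 1) : LocalTriv p (closure {a, b}) := by
  apply localTriv_of
  intro Γ _ _ σ hs hcen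
  obtain ⟨x, rfl⟩ := hs a
  obtain ⟨y, rfl⟩ := hs b
  refine ⟨closure {x, y}, by rw [MonoidHom.map_closure, Set.image_pair], ?_⟩
  set k := (x ^ 3)⁻¹ * (y * x * y⁻¹) with hk
  have hkk : k ∈ σ.ker := by
    show σ k = 1
    rw [hk]
    simp only [map_mul, map_inv, map_pow]
    rw [h1]; group
  have ck : ∀ g : Γ, g * k = k * g := fun g => mem_center_iff.mp (hcen hkk) g
  have hmk : y * y ∈ σ.ker := by
    show σ (y * y) = 1
    rw [map_mul, h2]
  have cm : ∀ g : Γ, g * (y * y) = (y * y) * g := fun g => mem_center_iff.mp (hcen hmk) g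
  have e1 : y * x * y⁻¹ = x ^ 3 * k := by rw [hk]; group
  have cxk : Commute x k := ck x
  have eyk : y * k * y⁻¹ = k := by rw [ck y, mul_inv_cancel_right]
  set n := x ^ 2 * k with hn
  -- conjugation by `y`
  have hA : y * n * y⁻¹ = n ^ 3 := by
    have : y * n * y⁻¹ = (y * x * y⁻¹) ^ 2 * (y * k * y⁻¹) := by
      rw [hn, conj_pow]; group
    rw [this, e1, eyk, (cxk.pow_left 3).mul_pow, hn, (cxk.pow_left 2).mul_pow, ← pow_mul, ← pow_mul,
      mul_assoc, ← pow_succ]
  have cxn : Commute x n := by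
    rw [hn]
    exact (Commute.pow_right (Commute.refl x) 2).mul_right cxk
  have hB : x * n * x⁻¹ = n := by rw [cxn.eq, mul_inv_cancel_right]
  have hB' : x⁻¹ * n * x = n := by rw [mul_assoc, ← cxn.eq, inv_mul_cancel_left]
  have hC : n ^ 4 = 1 := by
    have h5 : (y * y) * x * (y * y)⁻¹ = x := by rw [← cm x, mul_inv_cancel_right]
    have h6 : (y * y) * x * (y * y)⁻¹ = (y * x * y⁻¹) ^ 3 * (y * k * y⁻¹) := by
      have : (y * y) * x * (y * y)⁻¹ = y * (y * x * y⁻¹) * y⁻¹ := by group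
      rw [this, conj_pow, e1]; group
    rw [h6, eyk, e1, (cxk.pow_left 3).mul_pow, ← pow_mul, mul_assoc, ← pow_succ] at h5
    -- `x ^ 9 * k ^ 4 = x`
    have h7 : x * (x ^ 8 * k ^ 4) = x * 1 := by
      rw [← mul_assoc, ← pow_succ', mul_one]; exact h5
    have h8 := mul_left_cancel h7
    rw [hn, (cxk.pow_left 2).mul_pow, ← pow_mul]
    exact h8
  have hD : y⁻¹ * n * y = n ^ 3 := by
    have : y⁻¹ * n * y = y * ((y * y)⁻¹ * (n * (y * y))) * y⁻¹ := by group
    rw [this, cm n, inv_mul_cancel_left, hA]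
  have hyx : ⁅y, x⁆ = n := by
    have : k * x⁻¹ = x⁻¹ * k := (cxk.symm.inv_right).eq
    rw [commutatorElement_def, e1, mul_assoc, this, ← mul_assoc, hn]
    congr 1
    group
  have hxy : ⁅x, y⁆ = n⁻¹ := by rw [← hyx, commutatorElement_inv]
  have hle : ⁅closure {x, y}, closure {x, y}⁆ ≤ zpowers n := by
    apply comm_closure_le
    · intro s hs
      simp only [Set.mem_insert_iff, Set.mem_singleton_iff] at hs
      rcases hs with hs | hs <;> rw [hs] <;> apply mem_normalizer_zpowers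
      · rw [hB]; exact mem_zpowers n
      · rw [hB']; exact mem_zpowers n
      · rw [hA]; exact pow_mem (mem_zpowers n) 3
      · rw [hD]; exact pow_mem (mem_zpowers n) 3
    · intro s hs t ht
      simp only [Set.mem_insert_iff, Set.mem_singleton_iff] at hs ht
      rcases hs with hs | hs <;> rcases ht with ht | ht <;> rw [hs, ht]
      · rw [commutatorElement_self]; exact one_mem _
      · rw [hxy]; exact inv_mem (mem_zpowers n)
      · rw [hyx]; exact mem_zpowers n
      · rw [commutatorElement_self]; exact one_mem _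
  -- the order of `a`
  have hσn : σ n = σ x ^ 2 := by
    rw [hn, map_mul, map_pow, show σ k = 1 from hkk, mul_one]
  have h8 : σ x ^ 8 = 1 := by
    have := congrArg σ hC
    rw [map_pow, hσn, map_one, ← pow_mul] at this
    exact this
  have hord : orderOf (σ x) = 2 ^ (2 + 1) :=
    orderOf_eq_prime_pow (p := 2) (n := 2) (by norm_num; exact h4) (by norm_num; exact h8)
  intro z hz hzc _
  obtain ⟨i, rfl⟩ := mem_zpowers_iff.mp (hle hzc)
  have h9 : (σ x) ^ (2 * i) = 1 := by
    have : σ (n ^ i) = 1 := hz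
    rw [map_zpow, hσn, ← zpow_natCast, ← zpow_mul] at this
    exact_mod_cast this
  have h10 : ((orderOf (σ x) : ℕ) : ℤ) ∣ 2 * i := orderOf_dvd_iff_zpow_eq_one.mpr h9
  rw [hord] at h10
  have h11 : (4 : ℤ) ∣ i := by
    have : ((2 ^ (2 + 1) : ℕ) : ℤ) = 2 * 4 := by norm_num
    rw [this] at h10
    exact (mul_dvd_mul_iff_left (by norm_num : (2 : ℤ) ≠ 0)).mp h10
  obtain ⟨j, rfl⟩ := h11
  rw [zpow_mul, show n ^ (4 : ℤ) = n ^ (4 : ℕ) by norm_cast, hC, one_zpow]

end Cfsg.Agent.Lib.Helper3.SchurM
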