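import Mathlib
import Cfsg.Prelude.Def_Spor_Mathieu
import Cfsg.Agent.Lib.Helper3.Schur.SD
import Cfsg.Agent.Lib.Helper3.Fus.M11Data

set_option autoImplicit false

/-! The Schur multiplier of `M11` is trivial: Sylow subgroups `SD16`, `3²` (two generators swapped
by an involution), `5`, `11`. -/

namespace Cfsg.Agent.Lib.Helper3.SchurM11

open Cfsg Cfsg.Agent.Lib.Helper3 Cfsg.Agent.Lib.Helper3.Golay Cfsg.Agent.Lib.Helper3.Fus Cfsg.Agent.Lib.Helper3.SchurM
open Subgroup

def aT : List ℕ := [0, 6, 13, 8, 4, 14, 2, 22, 3, 16, 5, 21, 9, 18, 19, 23, 1, 15, 12, 10, 17, 20, 11, 7]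
def bT : List ℕ := [0, 1, 9, 8, 4, 19, 13, 11, 3, 2, 10, 7, 16, 6, 14, 20, 12, 22, 18, 5, 15, 21, 17, 23]
def uT : List ℕ := [0, 1, 2, 4, 12, 15, 16, 7, 9, 13, 10, 22, 3, 8, 21, 19, 18, 17, 6, 5, 14, 20, 23, 11]
def vT : List ℕ := [0, 1, 2, 13, 8, 19, 4, 17, 6, 16, 7, 22, 9, 18, 14, 5, 12, 10, 3, 15, 20, 21, 23, 11]
def gT : List ℕ := [0, 2, 1, 9, 16, 15, 6, 21, 18, 3, 14, 11, 12, 13, 10, 5, 4, 20, 8, 19, 17, 7, 22, 23]
def fT : List ℕ := [0, 1, 3, 4, 8, 19, 12, 22, 9, 2, 17, 7, 18, 6, 20, 14, 13, 11, 16, 15, 5, 21, 10, 23]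
def eT : List ℕ := [0, 2, 3, 4, 6, 22, 12, 19, 16, 1, 17, 10, 13, 8, 20, 14, 18, 15, 9, 11, 23, 21, 7, 5]

def allT : List (List ℕ) := [aT, bT, uT, vT, gT, fT, eT]

set_option maxRecDepth 100000 in
theorem cert_mem : allT.all memOK11 = true := by decide +kernel

/-- iterated product of codes -/
def powN (s : ℕ) (k : ℕ) : ℕ := Nat.rec idN (fun _ acc => compN s acc) k

theorem codeOf_pow (σ : Equiv.Perm GolayPt) (k : ℕ) : codeOf (σ ^ k) = powN (codeOf σ) k := by
  induction k with
  | zero => rw [pow_zero, codeOf_one]; rfl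
  | succ k ih => rw [pow_succ', codeOf_mul, ih]; rfl

set_option maxRecDepth 100000 in
theorem cert_rel :
    -- semidihedral relations
    Nat.beq (compN (encL bT) (encL aT)) (compN (powN (encL aT) 3) (encL bT)) = true ∧
    Nat.beq (compN (encL bT) (encL bT)) idN = true ∧
    Nat.beq (powN (encL aT) 4) idN = false ∧
    -- the generators of the certificate
    eqB FusM11.usN [encL aT, compN (powN (encL aT) 2) (encL bT), encL bT, powN (encL aT) 4] = true ∧
    -- the Sylow 3-subgroup
    Nat.beq (compN (encL uT) (encL vT)) (compN (encL vT) (encL uT)) = true ∧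
    Nat.beq (compN (encL gT) (encL uT)) (compN (encL vT) (encL gT)) = true ∧
    Nat.beq (compN (encL gT) (encL vT)) (compN (encL uT) (encL gT)) = true ∧
    Nat.beq (powN (encL uT) 3) idN = true ∧ Nat.beq (powN (encL vT) 3) idN = true ∧
    Nat.beq (encL uT) idN = false ∧
    Nat.beq (encL vT) idN = false ∧ Nat.beq (encL vT) (encL uT) = false ∧
    Nat.beq (encL vT) (powN (encL uT) 2) = false ∧
    -- orders 5 and 11
    Nat.beq (powN (encL fT) 5) idN = true ∧ Nat.beq (encL fT) idN = false ∧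
    Nat.beq (powN (encL eT) 11) idN = true ∧ Nat.beq (encL eT) idN = false := by decide +kernel

/-! ### general counting lemmas -/

theorem not_dvd_index {G : Type*} [Group G] {n p q : ℕ} (hG : Nat.card G = n)
    (P : Subgroup G) (hq : q ∣ Nat.card P) (hn : ¬ p * q ∣ n) : ¬ p ∣ P.index := by
  intro hp
  apply hn
  rw [← hG, ← P.card_mul_index, mul_comm p q]
  exact mul_dvd_mul hq hp

theorem sq_dvd_card_closure_pair {G : Type*} [Group G] [Finite G] (p : ℕ) [hp : Fact p.Prime]
    (u v : G) (huv : u * v = v * u) (hu : u ^ p = 1) (hv : v ^ p = 1) (hu1 : u ≠ 1)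
    (hnot : v ∉ zpowers u) : p ^ 2 ∣ Nat.card (closure {u, v}) := by
  set K := closure {u, v} with hK
  have hcomm : IsMulCommutative K := by
    apply Subgroup.isMulCommutative_closure
    intro x hx y hy
    simp only [Set.mem_insert_iff, Set.mem_singleton_iff] at hx hy
    rcases hx with rfl | rfl <;> rcases hy with rfl | rfl
    · rfl
    · exact huv
    · exact huv.symm
    · rfl
  have hcm : ∀ g ∈ K, ∀ h ∈ K, g * h = h * g := fun g hg h hh =>
    congrArg Subtype.val (hcomm.is_comm.comm ⟨g, hg⟩ ⟨h, hh⟩)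
  have hpow : ∀ g ∈ K, g ^ p = 1 := by
    intro g hg
    induction hg using closure_induction with
    | mem x hx =>
      simp only [Set.mem_insert_iff, Set.mem_singleton_iff] at hx
      rcases hx with rfl | rfl
      · exact hu
      · exact hv
    | one => exact one_pow p
    | mul g h hg hh ihg ihh =>
      have : Commute g h := hcm g hg h hh
      rw [this.mul_pow, ihg, ihh, one_mul]
    | inv g _ ih => rw [inv_pow, ih, inv_one]
  have hpg : IsPGroup p K := by
    intro g
    refine ⟨1, ?_⟩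
    apply Subtype.ext
    rw [pow_one]
    exact hpow g.1 g.2
  obtain ⟨n, hn⟩ := IsPGroup.iff_card.mp hpg
  have hle : zpowers u ≤ K := (zpowers_le).mpr (subset_closure (by simp))
  have hcz : Nat.card (zpowers u) = p := by
    rw [Nat.card_zpowers]
    exact orderOf_eq_prime hu hu1
  rw [hn]
  apply pow_dvd_pow
  by_contra hlt
  have hn1 : n ≤ 1 := by omega
  have h1 : Nat.card K ≤ Nat.card (zpowers u) := by
    rw [hn, hcz]
    calc p ^ n ≤ p ^ 1 := Nat.pow_le_pow_right hp.out.pos hn1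
      _ = p := pow_one p
  have h2 := Subgroup.eq_of_le_of_card_ge hle h1
  apply hnot
  rw [h2]
  exact subset_closure (by simp)

/-! ### the elements -/

theorem ex_of_mem {T : List ℕ} (hT : T ∈ allT) : ∃ σ ∈ Cfsg.Spor.M11, codeOf σ = encL T := by
  obtain ⟨σ, hσ, h1, -⟩ := tsound11 cert_mem T hT
  exact ⟨σ, hσ, codeOf_of_hasTbl h1⟩

theorem card_G : Nat.card ↥Cfsg.Spor.M11 = 7920 := Cfsg.Agent.Lib.Helper3.OutAut.card_M11

theorem prime_dvd_7920 {p : ℕ} (hp : p.Prime) (h : p ∣ 7920) : p = 2 ∨ p = 3 ∨ p = 5 ∨ p = 11 := by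
  have e : (7920 : ℕ) = 2 ^ 4 * (3 ^ 2 * (5 * 11)) := by norm_num
  rw [e] at h
  rcases hp.dvd_mul.mp h with h | h
  · left; exact (Nat.prime_dvd_prime_iff_eq hp Nat.prime_two).mp (hp.dvd_of_dvd_pow h)
  rcases hp.dvd_mul.mp h with h | h
  · right; left; exact (Nat.prime_dvd_prime_iff_eq hp Nat.prime_three).mp (hp.dvd_of_dvd_pow h)
  rcases hp.dvd_mul.mp h with h | h
  · right; right; left; exact (Nat.prime_dvd_prime_iff_eq hp Nat.prime_five).mp h
  · right; right; right; exact (Nat.prime_dvd_prime_iff_eq hp (by norm_num)).mp h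

theorem eq_of_code {x y : Equiv.Perm GolayPt} (h : Nat.beq (codeOf x) (codeOf y) = true) : x = y :=
  codeOf_injective (Nat.eq_of_beq_eq_true h)

theorem ne_of_code {x y : Equiv.Perm GolayPt} (h : Nat.beq (codeOf x) (codeOf y) = false) : x ≠ y := by
  rintro rfl
  rw [Nat.beq_refl] at h
  exact Bool.noConfusion h

theorem not_mem_zpowers_of {G : Type*} [Group G] {u v : G} (hu3 : u ^ 3 = 1) (hv1 : v ≠ 1) (hvu : v ≠ u)
    (hvu2 : v ≠ u ^ 2) : v ∉ zpowers u := by
  intro h
  obtain ⟨i, rfl⟩ := mem_zpowers_iff.mp h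
  have h3 : u ^ (3 : ℤ) = 1 := by exact_mod_cast hu3
  have e : u ^ i = u ^ (i % 3) := by
    conv_lhs => rw [← Int.emod_add_mul_ediv i 3, zpow_add, zpow_mul, h3, one_zpow, mul_one]
  have h0 : 0 ≤ i % 3 := Int.emod_nonneg i (by norm_num)
  have h1 : i % 3 < 3 := Int.emod_lt_of_pos i (by norm_num)
  rw [e] at hv1 hvu hvu2
  have : i % 3 = 0 ∨ i % 3 = 1 ∨ i % 3 = 2 := by omega
  rcases this with h | h | h <;> rw [h] at hv1 hvu hvu2
  · exact hv1 (zpow_zero u)
  · exact hvu (zpow_one u)
  · exact hvu2 (by exact_mod_cast (zpow_natCast u 2))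

theorem schur_M11 : Cfsg.HasCyclicSchurMultiplier ↥Cfsg.Spor.M11 1 := by
  obtain ⟨a, ha, hca⟩ := ex_of_mem (T := aT) (by simp [allT])
  obtain ⟨b, hb, hcb⟩ := ex_of_mem (T := bT) (by simp [allT])
  obtain ⟨u, hu, hcu⟩ := ex_of_mem (T := uT) (by simp [allT])
  obtain ⟨v, hv, hcv⟩ := ex_of_mem (T := vT) (by simp [allT])
  obtain ⟨g, hg, hcg⟩ := ex_of_mem (T := gT) (by simp [allT])
  obtain ⟨f, hf, hcf⟩ := ex_of_mem (T := fT) (by simp [allT])
  obtain ⟨e, he, hce⟩ := ex_of_mem (T := eT) (by simp [allT])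
  obtain ⟨r1, r2, r3, r4, r5, r6, r7, r8, r9, r10, r11, r12, r13, r14, r15, r16, r17⟩ := cert_rel
  have hba : b * a = a ^ 3 * b := eq_of_code (by
    rw [codeOf_mul, codeOf_mul, codeOf_pow, hca, hcb]; exact r1)
  have hbb : b * b = 1 := eq_of_code (by rw [codeOf_mul, codeOf_one, hcb]; exact r2)
  have ha4 : a ^ 4 ≠ 1 := ne_of_code (by rw [codeOf_pow, codeOf_one, hca]; exact r3)
  have hus := eqB_sound r4
  have huv : u * v = v * u := eq_of_code (by rw [codeOf_mul, codeOf_mul, hcu, hcv]; exact r5)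
  have hgu : g * u = v * g := eq_of_code (by rw [codeOf_mul, codeOf_mul, hcu, hcv, hcg]; exact r6)
  have hgv : g * v = u * g := eq_of_code (by rw [codeOf_mul, codeOf_mul, hcu, hcv, hcg]; exact r7)
  have hu3 : u ^ 3 = 1 := eq_of_code (by rw [codeOf_pow, codeOf_one, hcu]; exact r8)
  have hv3 : v ^ 3 = 1 := eq_of_code (by rw [codeOf_pow, codeOf_one, hcv]; exact r9)
  have hu1 : u ≠ 1 := ne_of_code (by rw [codeOf_one, hcu]; exact r10)
  have hv1 : v ≠ 1 := ne_of_code (by rw [codeOf_one, hcv]; exact r11)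
  have hvu : v ≠ u := ne_of_code (by rw [hcu, hcv]; exact r12)
  have hvu2 : v ≠ u ^ 2 := ne_of_code (by rw [codeOf_pow, hcu, hcv]; exact r13)
  have hf5 : f ^ 5 = 1 := eq_of_code (by rw [codeOf_pow, codeOf_one, hcf]; exact r14)
  have hf1 : f ≠ 1 := ne_of_code (by rw [codeOf_one, hcf]; exact r15)
  have he11 : e ^ 11 = 1 := eq_of_code (by rw [codeOf_pow, codeOf_one, hce]; exact r16)
  have he1 : e ≠ 1 := ne_of_code (by rw [codeOf_one, hce]; exact r17)
  -- the Sylow 2-subgroup of the certificate lies in `⟨a, b⟩`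
  have hDS : FusM11.D.S ≤ closure {a, b} := by
    unfold SylCert.S
    rw [closure_le]
    rintro σ ⟨-, hσ⟩
    have hσ' : codeOf σ ∈ FusM11.usN := hσ
    rw [hus] at hσ'
    have ha' : a ∈ closure {a, b} := subset_closure (by simp)
    have hb' : b ∈ closure {a, b} := subset_closure (by simp)
    simp only [List.mem_cons, List.not_mem_nil, or_false] at hσ'
    rcases hσ' with h | h | h | h
    · rw [← hca] at h
      rw [codeOf_injective h]; exact ha'
    · rw [← hca, ← hcb, ← codeOf_pow, ← codeOf_mul] at h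
      rw [codeOf_injective h]; exact mul_mem (pow_mem ha' 2) hb'
    · rw [← hcb] at h
      rw [codeOf_injective h]; exact hb'
    · rw [← hca, ← codeOf_pow] at h
      rw [codeOf_injective h]; exact pow_mem ha' 4
  have hD16 : Nat.card FusM11.D.S = 16 := by
    rw [FusM11.D.card]; rfl
  apply trivial_of_local
  intro p hp
  by_cases h2 : p = 2
  · subst h2
    refine ⟨closure {⟨a, ha⟩, ⟨b, hb⟩}, ?_, ?_⟩
    · apply not_dvd_index card_G _ (q := 16) _ (by norm_num)
      rw [← Subgroup.card_subtype, MonoidHom.map_closure, Set.image_pair]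
      rw [← hD16]
      exact Subgroup.card_dvd_of_le hDS
    · apply localTriv_sd
      · rw [mul_inv_eq_iff_eq_mul]
        apply Subtype.ext
        simpa using hba
      · apply Subtype.ext
        simpa using hbb
      · intro h
        apply ha4
        simpa using congrArg Subtype.val h
  by_cases h3 : p = 3
  · subst h3
    have : Fact (Nat.Prime 3) := ⟨Nat.prime_three⟩
    refine ⟨closure {⟨u, hu⟩, ⟨v, hv⟩}, ?_, ?_⟩
    · apply not_dvd_index card_G _ (q := 3 ^ 2) _ (by norm_num)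
      apply sq_dvd_card_closure_pair
      · apply Subtype.ext; simpa using huv
      · apply Subtype.ext; simpa using hu3
      · apply Subtype.ext; simpa using hv3
      · intro h; exact hu1 (by simpa using congrArg Subtype.val h)
      · apply not_mem_zpowers_of
        · apply Subtype.ext; simpa using hu3
        · intro h; exact hv1 (by simpa using congrArg Subtype.val h)
        · intro h; exact hvu (by simpa using congrArg Subtype.val h)
        · intro h; exact hvu2 (by simpa using congrArg Subtype.val h)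
    · apply localTriv_swap 3 (by decide) _ _ ⟨g, hg⟩
      · apply Subtype.ext; simpa using huv
      · rw [mul_inv_eq_iff_eq_mul]; apply Subtype.ext; simpa using hgu
      · rw [mul_inv_eq_iff_eq_mul]; apply Subtype.ext; simpa using hgv
  by_cases h5 : p = 5
  · subst h5
    have : Fact (Nat.Prime 5) := ⟨Nat.prime_five⟩
    refine ⟨zpowers ⟨f, hf⟩, ?_, localTriv_zpowers _ _⟩
    apply not_dvd_index card_G _ (q := 5) _ (by norm_num)
    rw [Nat.card_zpowers, orderOf_eq_prime (p := 5)]
    · apply Subtype.ext; simpa using hf5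
    · intro h; exact hf1 (by simpa using congrArg Subtype.val h)
  by_cases h11 : p = 11
  · subst h11
    have : Fact (Nat.Prime 11) := ⟨by norm_num⟩
    refine ⟨zpowers ⟨e, he⟩, ?_, localTriv_zpowers _ _⟩
    apply not_dvd_index card_G _ (q := 11) _ (by norm_num)
    rw [Nat.card_zpowers, orderOf_eq_prime (p := 11)]
    · apply Subtype.ext; simpa using he11
    · intro h; exact he1 (by simpa using congrArg Subtype.val h)
  · refine ⟨zpowers 1, ?_, localTriv_zpowers _ _⟩
    apply not_dvd_index card_G _ (q := 1) (one_dvd _)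
    rw [mul_one]
    intro h
    rcases prime_dvd_7920 hp h with h | h | h | h
    · exact h2 h
    · exact h3 h
    · exact h5 h
    · exact h11 h

end Cfsg.Agent.Lib.Helper3.SchurM11
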