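import Mathlib
import Cfsg.Agent.Lib.Helper3.Schur.Local

set_option autoImplicit false

/-! Local condition for a Frobenius group `2^3 : 7` (an abelian normal subgroup generated by the
conjugates of `a` under `x`, where `x ^ 7 = 1` and `x^3 a x^-3 = a * (x a x^-1)`). -/

namespace Cfsg.Agent.Lib.Helper3.SchurM

universe u

open Subgroup
open scoped commutatorElement

/-- the norm argument: an element `c e / e` fixed by `c`, with `c` of order `n`, has order dividing `n` -/
theorem pow_eq_one_of_telescope {A : Type*} [CommGroup A] (c : A →* A) (n : ℕ)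
    (hc : ∀ a, c^[n] a = a) (e z : A) (hz : z = c e / e) (hcz : c z = z) : z ^ n = 1 := by
  have h1 : ∀ i : ℕ, c^[i] z = z := by
    intro i
    induction i with
    | zero => rfl
    | succ i ih => rw [Function.iterate_succ_apply', ih, hcz]
  have h2 : ∏ i ∈ Finset.range n, c^[i] z = z ^ n := by
    simp [h1]
  have hdiv : ∀ (i : ℕ) (u v : A), c^[i] (u / v) = c^[i] u / c^[i] v := by
    intro i
    induction i with
    | zero => intros; rfl
    | succ i ih =>
      intro u v
      rw [Function.iterate_succ_apply', Function.iterate_succ_apply', Function.iterate_succ_apply',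
        ih, map_div]
  have h3 : ∀ i : ℕ, c^[i] z = c^[i + 1] e / c^[i] e := by
    intro i
    rw [hz, hdiv, ← Function.iterate_succ_apply]
  rw [← h2, Finset.prod_congr rfl (fun i _ => h3 i), Finset.prod_range_div (fun i => c^[i] e), hc]
  simp

theorem mem_normalizer_of {Γ : Type*} [Group Γ] {N : Subgroup Γ} {s : Γ}
    (h1 : ∀ m ∈ N, s * m * s⁻¹ ∈ N) (h2 : ∀ m ∈ N, s⁻¹ * m * s ∈ N) :
    s ∈ normalizer (N : Set Γ) := by
  rw [mem_normalizer_iff]
  intro h
  constructor
  · exact h1 h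
  · intro hh
    have := h2 _ hh
    have e : s⁻¹ * (s * h * s⁻¹) * s = h := by group
    rwa [e] at this

/-- abelian normal subgroup `A`, extended by an element `ξ` with `ξ ^ n` central: central elements of the
commutator subgroup of `⟨A, ξ⟩` have order dividing `n`. -/
theorem pow_eq_one_of_mem_comm {Γ : Type*} [Group Γ] (A : Subgroup Γ)
    (hA : ∀ a ∈ A, ∀ b ∈ A, a * b = b * a) (ξ : Γ) (h1 : ∀ a ∈ A, ξ * a * ξ⁻¹ ∈ A)
    (n : ℕ) (hn0 : 0 < n) (hn : ξ ^ n ∈ center Γ) (z : Γ)
    (hz : z ∈ ⁅closure ((A : Set Γ) ∪ {ξ}), closure ((A : Set Γ) ∪ {ξ})⁆)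
    (hzc : ξ * z * ξ⁻¹ = z) : z ^ n = 1 := by
  -- conjugation by powers of `ξ`
  have hpow : ∀ (i : ℕ), ∀ a ∈ A, ξ ^ i * a * (ξ ^ i)⁻¹ ∈ A := by
    intro i
    induction i with
    | zero => intro a ha; simpa using ha
    | succ i ih =>
      intro a ha
      have := h1 _ (ih a ha)
      have e : ξ * (ξ ^ i * a * (ξ ^ i)⁻¹) * ξ⁻¹ = ξ ^ (i + 1) * a * (ξ ^ (i + 1))⁻¹ := by
        rw [pow_succ']; group
      rwa [e] at this
  have h2 : ∀ a ∈ A, ξ⁻¹ * a * ξ ∈ A := by
    intro a ha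
    obtain ⟨m, rfl⟩ : ∃ m, n = m + 1 := ⟨n - 1, by omega⟩
    have := hpow m a ha
    have hc := mem_center_iff.mp hn
    have e : ξ⁻¹ * a * ξ = ξ ^ m * a * (ξ ^ m)⁻¹ := by
      have e1 : ξ⁻¹ = ξ ^ m * (ξ ^ (m + 1))⁻¹ := by rw [pow_succ]; group
      have e2 : ξ = ξ ^ (m + 1) * (ξ ^ m)⁻¹ := by rw [pow_succ']; group
      calc ξ⁻¹ * a * ξ = ξ ^ m * (ξ ^ (m + 1))⁻¹ * a * (ξ ^ (m + 1) * (ξ ^ m)⁻¹) := by
            rw [← e1, ← e2]
        _ = ξ ^ m * ((ξ ^ (m + 1))⁻¹ * (a * ξ ^ (m + 1))) * (ξ ^ m)⁻¹ := by group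
        _ = ξ ^ m * a * (ξ ^ m)⁻¹ := by rw [hc a, inv_mul_cancel_left]
    rw [e]
    exact this
  letI : CommGroup ↥A := { (inferInstance : Group ↥A) with
    mul_comm := fun a b => Subtype.ext (hA a a.2 b b.2) }
  let c : ↥A →* ↥A :=
    { toFun := fun a => ⟨ξ * a * ξ⁻¹, h1 a a.2⟩
      map_one' := by apply Subtype.ext; simp
      map_mul' := by intro a b; apply Subtype.ext; simp }
  have hcval : ∀ a : ↥A, ((c a : ↥A) : Γ) = ξ * a * ξ⁻¹ := fun _ => rfl
  let φ : ↥A →* Γ := A.subtype.comp (c / MonoidHom.id ↥A)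
  have hφ : ∀ e : ↥A, φ e = ξ * e * ξ⁻¹ * (e : Γ)⁻¹ := by
    intro e
    show ((c e / e : ↥A) : Γ) = _
    rw [div_eq_mul_inv, Subgroup.coe_mul, Subgroup.coe_inv, hcval]
  set M : Subgroup Γ := φ.range with hM
  have hMA : M ≤ A := by
    rintro _ ⟨e, rfl⟩
    exact (c e / e : ↥A).2
  have hle : ⁅closure ((A : Set Γ) ∪ {ξ}), closure ((A : Set Γ) ∪ {ξ})⁆ ≤ M := by
    apply comm_closure_le
    · intro s hs
      rcases hs with hs | hs
      · apply mem_normalizer_of
        · intro m hm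
          have : s * m * s⁻¹ = m := by rw [hA s hs m (hMA hm), mul_inv_cancel_right]
          rwa [this]
        · intro m hm
          have : s⁻¹ * m * s = m := by rw [mul_assoc, hA m (hMA hm) s hs, inv_mul_cancel_left]
          rwa [this]
      · rw [Set.mem_singleton_iff] at hs
        subst hs
        apply mem_normalizer_of
        · rintro _ ⟨e, rfl⟩
          refine ⟨c e, ?_⟩
          rw [hφ, hφ, hcval]; group
        · rintro _ ⟨e, rfl⟩
          refine ⟨⟨s⁻¹ * e * s, h2 e e.2⟩, ?_⟩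
          rw [hφ, hφ]; group
    · intro s hs t ht
      rcases hs with hs | hs <;> rcases ht with ht | ht
      · have : ⁅s, t⁆ = 1 := by
          rw [commutatorElement_eq_one_iff_commute]; exact hA s hs t ht
        rw [this]; exact M.one_mem
      · rw [Set.mem_singleton_iff] at ht
        subst ht
        have : ⁅s, t⁆ = (φ ⟨s, hs⟩)⁻¹ := by
          rw [hφ, commutatorElement_def]; group
        rw [this]
        exact M.inv_mem ⟨_, rfl⟩
      · rw [Set.mem_singleton_iff] at hs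
        subst hs
        have : ⁅s, t⁆ = φ ⟨t, ht⟩ := by
          rw [hφ, commutatorElement_def]
        rw [this]
        exact ⟨_, rfl⟩
      · rw [Set.mem_singleton_iff] at hs ht
        rw [hs, ht, commutatorElement_self]
        exact M.one_mem
  obtain ⟨e, he⟩ := hle hz
  -- transfer to the commutative group `A`
  have hzA : z ∈ A := hMA (hle hz)
  have hiter : ∀ (i : ℕ) (a : ↥A), ((c^[i] a : ↥A) : Γ) = ξ ^ i * a * (ξ ^ i)⁻¹ := by
    intro i
    induction i with
    | zero => intro a; simp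
    | succ i ih =>
      intro a
      rw [Function.iterate_succ_apply', hcval, ih, pow_succ']; group
  have key := pow_eq_one_of_telescope c n (by
    intro a
    apply Subtype.ext
    rw [hiter]
    have hc := mem_center_iff.mp hn
    rw [← hc a, mul_inv_cancel_right]) e ⟨z, hzA⟩ (by
      apply Subtype.ext
      show z = ((c e / e : ↥A) : Γ)
      rw [← he]; rfl) (by
      apply Subtype.ext
      rw [hcval]; exact hzc)
  have := congrArg Subtype.val key
  simpa using this

theorem conj_commElt {Γ : Type*} [Group Γ] (ξ g h : Γ) :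
    ⁅ξ * g * ξ⁻¹, ξ * h * ξ⁻¹⁆ = ξ * ⁅g, h⁆ * ξ⁻¹ := by
  simp only [commutatorElement_def]; group

theorem conj_central {Γ : Type*} [Group Γ] {k : Γ} (hk : k ∈ center Γ) (ξ : Γ) : ξ * k * ξ⁻¹ = k := by
  rw [mem_center_iff.mp hk ξ, mul_inv_cancel_right]

/-- the Frobenius group `2^3 : 7` satisfies the local condition at every prime other than `7` -/
theorem localTriv_frob7 {G : Type u} [Group G] (p : ℕ) (hp : Nat.Coprime p 7) (a x : G)
    (hx : x ^ 7 = 1)
    (h1 : a * (x * a * x⁻¹) = x * a * x⁻¹ * a)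
    (h2 : a * (x * (x * a * x⁻¹) * x⁻¹) = x * (x * a * x⁻¹) * x⁻¹ * a)
    (hr : x * (x * (x * a * x⁻¹) * x⁻¹) * x⁻¹ = a * (x * a * x⁻¹)) :
    LocalTriv p (closure {a, x}) := by
  apply localTriv_of
  intro Γ _ _ σ hs hcen
  obtain ⟨α, rfl⟩ := hs a
  obtain ⟨ξ, rfl⟩ := hs x
  obtain ⟨α1, hα1⟩ : ∃ α1, α1 = ξ * α * ξ⁻¹ := ⟨_, rfl⟩
  obtain ⟨α2, hα2⟩ : ∃ α2, α2 = ξ * α1 * ξ⁻¹ := ⟨_, rfl⟩
  obtain ⟨α3, hα3⟩ : ∃ α3, α3 = ξ * α2 * ξ⁻¹ := ⟨_, rfl⟩
  have s1 : σ α1 = σ ξ * σ α * (σ ξ)⁻¹ := by rw [hα1]; simp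
  have s2 : σ α2 = σ ξ * (σ ξ * σ α * (σ ξ)⁻¹) * (σ ξ)⁻¹ := by rw [hα2, map_mul, map_mul, s1]; simp
  have s3 : σ α3 = σ ξ * (σ ξ * (σ ξ * σ α * (σ ξ)⁻¹) * (σ ξ)⁻¹) * (σ ξ)⁻¹ := by
    rw [hα3, map_mul, map_mul, s2]; simp
  -- central elements
  have hf1 : ⁅α, α1⁆ ∈ center Γ := by
    apply hcen
    show σ _ = 1
    rw [map_commutatorElement, commutatorElement_eq_one_iff_commute, s1]
    exact h1
  have hf2 : ⁅α, α2⁆ ∈ center Γ := by
    apply hcen
    show σ _ = 1
    rw [map_commutatorElement, commutatorElement_eq_one_iff_commute, s2]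
    exact h2
  have hk : (α * α1)⁻¹ * α3 ∈ center Γ := by
    apply hcen
    show σ _ = 1
    rw [map_mul, map_inv, map_mul, s1, s3, hr]
    group
  have e3 : α3 = α * α1 * ((α * α1)⁻¹ * α3) := by group
  have c12 : ⁅α1, α2⁆ = ⁅α, α1⁆ := by
    have := conj_commElt ξ α α1
    rw [← hα1, ← hα2, conj_central hf1] at this
    exact this
  have c23 : ⁅α2, α3⁆ = ⁅α, α1⁆ := by
    have := conj_commElt ξ α1 α2
    rw [← hα2, ← hα3, c12, conj_central hf1] at this
    exact this
  have c13 : ⁅α1, α3⁆ = ⁅α, α2⁆ := by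
    have := conj_commElt ξ α α2
    rw [← hα1, ← hα3, conj_central hf2] at this
    exact this
  have d13 : ⁅α1, α3⁆ = ⁅α, α1⁆⁻¹ := by
    rw [e3, commElt_mul_central_right hk, commElt_mul_right', commutatorElement_self,
      commutatorElement_inv]
    group
  have d23 : ⁅α2, α3⁆ = ⁅α, α2⁆⁻¹ * ⁅α, α1⁆⁻¹ := by
    rw [e3, commElt_mul_central_right hk, commElt_mul_right', ← commutatorElement_inv α α2,
      ← commutatorElement_inv α1 α2, c12, conj_central (inv_mem hf1)]
  have f21 : ⁅α, α2⁆ = ⁅α, α1⁆⁻¹ := c13.symm.trans d13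
  have f1 : ⁅α, α1⁆ = 1 := by
    have := c23.symm.trans d23
    rw [f21, inv_inv, mul_inv_cancel] at this
    exact this
  have f2 : ⁅α, α2⁆ = 1 := by rw [f21, f1, inv_one]
  have g12 : ⁅α1, α2⁆ = 1 := c12.trans f1
  have k01 : α * α1 = α1 * α := commutatorElement_eq_one_iff_commute.mp f1
  have k02 : α * α2 = α2 * α := commutatorElement_eq_one_iff_commute.mp f2
  have k12 : α1 * α2 = α2 * α1 := commutatorElement_eq_one_iff_commute.mp g12
  -- the abelian subgroup
  set S : Set Γ := {α, α1, α2} ∪ (σ.ker : Set Γ) with hS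
  have hcomm : ∀ u ∈ S, ∀ v ∈ S, u * v = v * u := by
    intro u hu v hv
    rcases hu with hu | hu
    · rcases hv with hv | hv
      · simp only [Set.mem_insert_iff, Set.mem_singleton_iff] at hu hv
        rcases hu with rfl | rfl | rfl <;> rcases hv with rfl | rfl | rfl <;>
          first | rfl | assumption | (symm; assumption)
      · exact (mem_center_iff.mp (hcen hv) u)
    · exact (mem_center_iff.mp (hcen hu) v).symm
  set A : Subgroup Γ := closure S with hAdef
  have hA : ∀ u ∈ A, ∀ v ∈ A, u * v = v * u := by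
    intro u hu v hv
    have hc : IsMulCommutative ↥(closure S) := Subgroup.isMulCommutative_closure hcomm
    have := hc.is_comm.comm ⟨u, hu⟩ ⟨v, hv⟩
    exact congrArg Subtype.val this
  have hconj : ∀ u ∈ A, ξ * u * ξ⁻¹ ∈ A := by
    intro u hu
    induction hu using closure_induction with
    | mem s hs =>
      rcases hs with hs | hs
      · simp only [Set.mem_insert_iff, Set.mem_singleton_iff] at hs
        rcases hs with rfl | rfl | rfl
        · rw [← hα1]; exact Subgroup.subset_closure (Or.inl (by simp))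
        · rw [← hα2]; exact Subgroup.subset_closure (Or.inl (by simp))
        · rw [← hα3, e3]
          refine A.mul_mem (A.mul_mem ?_ ?_) ?_
          · exact Subgroup.subset_closure (Or.inl (by simp))
          · exact Subgroup.subset_closure (Or.inl (by simp))
          · apply Subgroup.subset_closure
            right
            show σ _ = 1
            rw [map_mul, map_inv, map_mul, s1, s3, hr]
            group
      · rw [conj_central (hcen hs)]
        exact Subgroup.subset_closure (Or.inr hs)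
    | one => simp
    | mul u v _ _ ihu ihv =>
      have : ξ * (u * v) * ξ⁻¹ = (ξ * u * ξ⁻¹) * (ξ * v * ξ⁻¹) := by group
      rw [this]; exact A.mul_mem ihu ihv
    | inv u _ ih =>
      have : ξ * u⁻¹ * ξ⁻¹ = (ξ * u * ξ⁻¹)⁻¹ := by group
      rw [this]; exact A.inv_mem ih
  refine ⟨closure ((A : Set Γ) ∪ {ξ}), ?_, ?_⟩
  · rw [closure_le]
    intro g hg
    rcases hg with rfl | rfl
    · exact ⟨α, Subgroup.subset_closure (Or.inl (Subgroup.subset_closure (Or.inl (by simp)))), rfl⟩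
    · exact ⟨ξ, Subgroup.subset_closure (Or.inr rfl), rfl⟩
  · intro z hz hzc hzp
    have h7 : ξ ^ 7 ∈ center Γ := by
      apply hcen
      show σ _ = 1
      rw [map_pow, hx]
    have z7 := pow_eq_one_of_mem_comm A hA ξ hconj 7 (by norm_num) h7 z hzc
      (conj_central (hcen hz) ξ)
    have hd : orderOf z ∣ Nat.gcd p 7 :=
      Nat.dvd_gcd (orderOf_dvd_of_pow_eq_one hzp) (orderOf_dvd_of_pow_eq_one z7)
    rw [hp, Nat.dvd_one, orderOf_eq_one_iff] at hd
    exact hd

end Cfsg.Agent.Lib.Helper3.SchurM
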